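import Mathlib
import Groth.Agent.DvrDom.Basic

/-!
# A DVR realising a specialisation with prescribed finite residue and generic field extensions
-/

set_option autoImplicit false
universe u

open Polynomial

namespace Groth.Agent.DvrGeom

theorem exists_free_with_gens {R : Type u} [CommRing R] [Nontrivial R] {k : Type u} [Field k] [Algebra R k] (l : List k)
    (hl : ∀ c ∈ l, IsIntegral R c) :
    ∃ (T : Type u) (_ : CommRing T) (_ : Algebra R T) (ψ : T →ₐ[R] k),
      Module.Free R T ∧ Module.Finite R T ∧ ∀ c ∈ l, c ∈ ψ.range := by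
  induction l with
  | nil => exact ⟨R, inferInstance, inferInstance, Algebra.ofId R k, inferInstance, inferInstance, by simp⟩
  | cons c l ih =>
    obtain ⟨T, _, _, ψ, hfree, hfin, hmem⟩ := ih fun x hx => hl x (List.mem_cons_of_mem _ hx)
    obtain ⟨g, hg, hgc⟩ := hl c List.mem_cons_self
    let := ψ.toRingHom.toAlgebra
    have : IsScalarTower R T k := IsScalarTower.of_algebraMap_eq fun r => (ψ.commutes r).symm
    have hq : (g.map (algebraMap R T)).Monic := hg.map _
    have hroot : aeval c (g.map (algebraMap R T)) = 0 := by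
      rw [aeval_map_algebraMap]
      exact hgc
    let ψ' : AdjoinRoot (g.map (algebraMap R T)) →ₐ[R] k :=
      (AdjoinRoot.liftAlgHom (g.map (algebraMap R T)) (Algebra.ofId T k) c hroot).restrictScalars R
    have h1 : Module.Free T (AdjoinRoot (g.map (algebraMap R T))) := Module.Free.of_basis (AdjoinRoot.powerBasis' hq).basis
    have h2 : Module.Finite T (AdjoinRoot (g.map (algebraMap R T))) := (AdjoinRoot.powerBasis' hq).finite
    refine ⟨_, inferInstance, inferInstance, ψ', Module.Free.trans (S := T), Module.Finite.trans T _, ?_⟩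
    intro x hx
    rcases List.mem_cons.1 hx with rfl | hx
    · exact ⟨AdjoinRoot.root _, (AdjoinRoot.lift_root hroot :)⟩
    · obtain ⟨t, rfl⟩ := hmem x hx
      exact ⟨AdjoinRoot.of _ t, (AdjoinRoot.lift_of hroot :)⟩

/-- Clearing denominators of finitely many elements of a finite extension. -/
theorem exists_integral_gens {R : Type u} [CommRing R] {k₀ : Type u} [Field k₀] [Algebra R k₀]
    (hfrac : ∀ z : k₀, ∃ a b : R, algebraMap R k₀ b ≠ 0 ∧ z * algebraMap R k₀ b = algebraMap R k₀ a)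
    (k' : Type u) [Field k'] [Algebra k₀ k'] [FiniteDimensional k₀ k'] [Algebra R k'] [IsScalarTower R k₀ k'] :
    ∃ l : List k', (∀ c ∈ l, IsIntegral R c) ∧
      ∀ S : Subalgebra R k', (∀ c ∈ l, c ∈ S) → ∀ z : k', ∃ x ∈ S, ∃ y ∈ S, y ≠ 0 ∧ z = x / y := by
  classical
  have hint : ∀ z : k', ∃ b : R, algebraMap R k₀ b ≠ 0 ∧ IsIntegral R (b • z) := fun z => by
    obtain ⟨P, hPm, hP⟩ := (Algebra.IsIntegral.isIntegral (R := k₀) z)
    choose a b hb hab using hfrac
    let M := ∏ i ∈ Finset.range P.natDegree, b (P.coeff i)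
    have hM : algebraMap R k₀ M ≠ 0 := by
      rw [map_prod]; exact Finset.prod_ne_zero_iff.2 fun i _ => hb _
    refine ⟨M, hM, ?_⟩
    let x : ℕ → R := fun i => (∏ j ∈ (Finset.range P.natDegree).erase i, b (P.coeff j)) * a (P.coeff i)
    refine ⟨X ^ P.natDegree + ∑ i ∈ Finset.range P.natDegree, C (x i * M ^ (P.natDegree - i - 1)) * X ^ i,
      monic_X_pow_add ((degree_sum_le _ _).trans_lt
        ((Finset.sup_lt_iff (WithBot.bot_lt_coe _)).2 fun i hi => (degree_C_mul_X_pow_le _ _).trans_lt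
          (by exact_mod_cast Finset.mem_range.1 hi))), ?_⟩
    have hPe : z ^ P.natDegree + ∑ i ∈ Finset.range P.natDegree, algebraMap k₀ k' (P.coeff i) * z ^ i = 0 := by
      rw [← hP, eval₂_eq_sum_range, Finset.sum_range_succ, hPm.coeff_natDegree, map_one, one_mul, add_comm]
    simp only [eval₂_add, eval₂_finsetSum, eval₂_mul, eval₂_C, eval₂_X_pow]
    rw [← mul_eq_zero_of_right (algebraMap R k' M ^ P.natDegree) hPe, mul_add, Finset.mul_sum,
      Algebra.smul_def, mul_pow]
    congr 1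
    refine Finset.sum_congr rfl fun i hi => ?_
    have e : algebraMap R k' (x i) = algebraMap R k' M * algebraMap k₀ k' (P.coeff i) := by
      rw [IsScalarTower.algebraMap_apply R k₀ k', IsScalarTower.algebraMap_apply R k₀ k', ← map_mul]
      congr 1
      rw [map_mul, ← hab, show M = _ from (Finset.prod_erase_mul _ _ hi).symm, map_mul]
      ring
    obtain ⟨r, hr⟩ : ∃ r, P.natDegree = i + r + 1 := ⟨P.natDegree - i - 1, by
      have := Finset.mem_range.1 hi; omega⟩
    rw [map_mul, map_pow, e, show P.natDegree - i - 1 = r by omega, hr]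
    ring
  choose b hb hbi using hint
  let v := Module.finBasis k₀ k'
  refine ⟨(List.finRange _).map fun i => b (v i) • v i, fun c hc => ?_, fun S hS z => ?_⟩
  · obtain ⟨i, -, rfl⟩ := List.mem_map.1 hc
    exact hbi _
  · have hclosed : ∀ z, z ∈ Submodule.span k₀ (Set.range v) → ∃ x ∈ S, ∃ y ∈ S, y ≠ 0 ∧ z = x / y := by
      intro z hz
      induction hz using Submodule.span_induction with
      | mem z hz =>
        obtain ⟨i, rfl⟩ := hz
        refine ⟨b (v i) • v i, hS _ (List.mem_map.2 ⟨i, List.mem_finRange i, rfl⟩),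
          algebraMap R k' (b (v i)), S.algebraMap_mem _, ?_, ?_⟩
        · rw [IsScalarTower.algebraMap_apply R k₀ k']
          exact (_root_.map_ne_zero _).2 (hb _)
        · rw [Algebra.smul_def, mul_div_cancel_left₀]
          rw [IsScalarTower.algebraMap_apply R k₀ k']
          exact (_root_.map_ne_zero _).2 (hb _)
      | zero => exact ⟨0, S.zero_mem, 1, S.one_mem, one_ne_zero, by simp⟩
      | add z w _ _ hz hw =>
        obtain ⟨x, hx, y, hy, hy0, rfl⟩ := hz
        obtain ⟨x', hx', y', hy', hy0', rfl⟩ := hw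
        exact ⟨x * y' + x' * y, S.add_mem (S.mul_mem hx hy') (S.mul_mem hx' hy), y * y', S.mul_mem hy hy',
          mul_ne_zero hy0 hy0', by rw [div_add_div _ _ hy0 hy0']; ring⟩
      | smul c z _ hz =>
        obtain ⟨x, hx, y, hy, hy0, rfl⟩ := hz
        obtain ⟨a, d, hd, hc⟩ := hfrac c
        have hd' : algebraMap R k' d ≠ 0 := by
          rw [IsScalarTower.algebraMap_apply R k₀ k']; exact (_root_.map_ne_zero _).2 hd
        refine ⟨algebraMap R k' a * x, S.mul_mem (S.algebraMap_mem _) hx, algebraMap R k' d * y,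
          S.mul_mem (S.algebraMap_mem _) hy, mul_ne_zero hd' hy0, ?_⟩
        rw [Algebra.smul_def, IsScalarTower.algebraMap_apply R k₀ k' a, ← hc, map_mul,
          ← IsScalarTower.algebraMap_apply R k₀ k']
        field_simp
    exact hclosed z (v.span_eq ▸ Submodule.mem_top)

/-- Extending a homomorphism to the field of quotients of the image. -/
theorem exists_hom_of_ker_eq {T : Type u} [CommRing T] {k' F : Type u} [Field k'] [Field F]
    (ψ : T →+* k') (hgen : ∀ z : k', ∃ x y : T, ψ y ≠ 0 ∧ z = ψ x / ψ y)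
    (ρ : T →+* F) (hker : RingHom.ker ψ = RingHom.ker ρ) :
    ∃ j : k' →+* F, ∀ t, j (ψ t) = ρ t := by
  let M := RingHom.ker ψ
  let := (Ideal.Quotient.lift M ψ fun _ h => h).toAlgebra
  have hinj : Function.Injective (algebraMap (T ⧸ M) k') := RingHom.kerLift_injective ψ
  have : M.IsPrime := RingHom.ker_isPrime _
  have : FaithfulSMul (T ⧸ M) k' := (faithfulSMul_iff_algebraMap_injective _ _).2 hinj
  have : IsFractionRing (T ⧸ M) k' := IsFractionRing.of_field _ _ fun z => by
    obtain ⟨x, y, -, rfl⟩ := hgen z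
    exact ⟨Ideal.Quotient.mk M x, Ideal.Quotient.mk M y, rfl⟩
  have hinj2 : Function.Injective (Ideal.Quotient.lift M ρ fun t h => hker.le h) := by
    rw [RingHom.injective_iff_ker_eq_bot]
    refine (Ideal.ker_quotient_lift _ _).trans ?_
    rw [← hker]
    exact Ideal.map_quotient_self _
  exact ⟨IsFractionRing.lift hinj2, fun t => IsFractionRing.lift_algebraMap hinj2 (Ideal.Quotient.mk M t)⟩

theorem exists_dvr_core (R : Type u) [CommRing R] [IsDomain R] [IsNoetherianRing R]
    {k₀ : Type u} [Field k₀] [Algebra R k₀]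
    (hfrac : ∀ z : k₀, ∃ a b : R, algebraMap R k₀ b ≠ 0 ∧ z * algebraMap R k₀ b = algebraMap R k₀ a)
    {K₀ : Type u} [Field K₀] [Algebra R K₀] [IsFractionRing R K₀]
    (hp : RingHom.ker (algebraMap R k₀) ≠ ⊥)
    (k' : Type u) [Field k'] [Algebra k₀ k'] [FiniteDimensional k₀ k'] [Algebra R k'] [IsScalarTower R k₀ k']
    (K' : Type u) [Field K'] [Algebra K₀ K'] [FiniteDimensional K₀ K'] [Algebra R K'] [IsScalarTower R K₀ K'] :
    ∃ (A : Type u) (_ : CommRing A) (_ : IsDomain A) (_ : IsDiscreteValuationRing A) (φ : R →+* A),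
      (∀ (F : Type u) [Field F] (ρ : A →+* F), RingHom.ker ρ = IsLocalRing.maximalIdeal A →
        ∃ j : k' →+* F, ∀ r, j (algebraMap R k' r) = ρ (φ r)) ∧
      (∀ (F : Type u) [Field F] (ρ : A →+* F), Function.Injective ρ →
        ∃ j : K' →+* F, ∀ r, j (algebraMap R K' r) = ρ (φ r)) := by
  classical
  obtain ⟨l, hl, hlgen⟩ := exists_integral_gens hfrac k'
  obtain ⟨T, _, _, ψ, _, _, hmem⟩ := exists_free_with_gens l hl
  have hgenψ : ∀ z : k', ∃ x y : T, ψ y ≠ 0 ∧ z = ψ x / ψ y := fun z => by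
    obtain ⟨_, ⟨x, rfl⟩, _, ⟨y, rfl⟩, hy, hz⟩ := hlgen ψ.range hmem z
    exact ⟨x, y, hy, hz⟩
  let M : Ideal T := RingHom.ker ψ
  have : M.IsPrime := RingHom.ker_isPrime _
  let p : Ideal R := RingHom.ker (algebraMap R k₀)
  have hMp : M.comap (algebraMap R T) = p := by
    ext r
    show ψ (algebraMap R T r) = 0 ↔ algebraMap R k₀ r = 0
    rw [ψ.commutes, IsScalarTower.algebraMap_apply R k₀ k', map_eq_zero]
  have : M.LiesOver p := ⟨hMp.symm⟩
  have : p.IsPrime := RingHom.ker_isPrime _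
  obtain ⟨Q, hQM, hQ, hQo⟩ := Ideal.exists_ideal_le_liesOver_of_le (p := (⊥ : Ideal R)) (q := p) M bot_le
  let T₁ := T ⧸ Q
  have hinjR : Function.Injective (algebraMap R T₁) := by
    rw [injective_iff_map_eq_zero]
    intro r hr
    have : algebraMap R T r ∈ Q := Ideal.Quotient.eq_zero_iff_mem.1 hr
    exact (Ideal.mem_bot).1 (hQo.over.symm ▸ this : r ∈ (⊥ : Ideal R))
  let Ω := AlgebraicClosure K₀
  have hinjΩ : Function.Injective (algebraMap R Ω) := by
    rw [IsScalarTower.algebraMap_eq R K₀ Ω]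
    exact (algebraMap K₀ Ω).injective.comp (IsFractionRing.injective R K₀)
  have : FaithfulSMul R T₁ := (faithfulSMul_iff_algebraMap_injective _ _).2 hinjR
  have : FaithfulSMul R Ω := (faithfulSMul_iff_algebraMap_injective _ _).2 hinjΩ
  have : Algebra.IsIntegral R T₁ := Algebra.IsIntegral.of_finite R T₁
  let ν : T₁ →ₐ[R] Ω := IsAlgClosed.lift
  have hν : Function.Injective ν := by
    rw [RingHom.injective_iff_ker_eq_bot]
    have : (RingHom.ker ν).IsPrime := RingHom.ker_isPrime _
    refine Ideal.eq_bot_of_comap_eq_bot (R := R) ?_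
    ext r
    show ν (algebraMap R T₁ r) = 0 ↔ r = 0
    rw [ν.commutes, map_eq_zero_iff _ hinjΩ]
  let τ : T →ₐ[R] Ω := ν.comp (Ideal.Quotient.mkₐ R Q)
  have hτ : ∀ t, τ t = 0 → t ∈ Q := fun t ht =>
    Ideal.Quotient.eq_zero_iff_mem.1 (hν (ht.trans (map_zero ν).symm))
  obtain ⟨l', hl', hlgen'⟩ := exists_integral_gens (k₀ := K₀)
    (fun z => by
      obtain ⟨a, b, hb, hab⟩ := IsFractionRing.div_surjective (A := R) z
      refine ⟨a, b, IsFractionRing.to_map_ne_zero_of_mem_nonZeroDivisors hb, ?_⟩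
      rw [← hab, div_mul_cancel₀ _ (IsFractionRing.to_map_ne_zero_of_mem_nonZeroDivisors hb)]) K'
  let σ : K' →ₐ[K₀] Ω := IsAlgClosed.lift
  obtain ⟨G, hG⟩ := Module.Finite.fg_top (R := R) (M := T)
  let gens : Set Ω := (τ '' (G : Set T)) ∪ (σ '' {c | c ∈ l'})
  have hgfin : gens.Finite := (G.finite_toSet.image _).union ((List.finite_toSet l').image _)
  have hgint : ∀ x ∈ gens, IsIntegral R x := by
    rintro x (⟨t, -, rfl⟩ | ⟨c, hc, rfl⟩)
    · exact (Algebra.IsIntegral.isIntegral t).map τ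
    · exact (hl' c hc).map (σ.restrictScalars R)
  let R₂ : Subalgebra R Ω := Algebra.adjoin R gens
  have hR₂fin : Module.Finite R R₂ := Module.Finite.iff_fg.2 (fg_adjoin_of_finite hgfin hgint)
  have : IsNoetherianRing R₂ := IsNoetherianRing.of_finite R R₂
  have hτR₂ : ∀ t, τ t ∈ R₂ := fun t => by
    have ht : t ∈ Submodule.span R (G : Set T) := hG ▸ Submodule.mem_top
    induction ht using Submodule.span_induction with
    | mem t ht => exact Algebra.subset_adjoin (Or.inl ⟨t, ht, rfl⟩)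
    | zero => rw [map_zero]; exact R₂.zero_mem
    | add a b _ _ ha hb => rw [map_add]; exact R₂.add_mem ha hb
    | smul r a _ ha => rw [map_smul]; exact R₂.smul_mem ha r
  let τ₂ : T →ₐ[R] R₂ := τ.codRestrict R₂ hτR₂
  let := τ₂.toRingHom.toAlgebra
  have : IsScalarTower R T R₂ := IsScalarTower.of_algebraMap_eq fun r => (τ₂.commutes r).symm
  have : Module.Finite T R₂ := Module.Finite.of_restrictScalars_finite R T R₂
  obtain ⟨P₂, -, hP₂, hP₂M⟩ := Ideal.exists_ideal_over_prime_of_isIntegral (S := R₂) M ⊥ (fun t ht =>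
    hQM (hτ t (congrArg Subtype.val (Ideal.mem_bot.1 ht))))
  let A₀ := Localization.AtPrime P₂
  let L := FractionRing R₂
  let toL : A₀ →+* L := IsLocalization.lift (M := P₂.primeCompl) (g := algebraMap R₂ L) fun y =>
    isUnit_iff_ne_zero.2 (IsFractionRing.to_map_ne_zero_of_mem_nonZeroDivisors
      (mem_nonZeroDivisors_of_ne_zero fun h => y.2 (by rw [h]; exact P₂.zero_mem)))
  let := toL.toAlgebra
  have htoL : Function.Injective toL := by
    rw [IsLocalization.lift_injective_iff]
    intro x y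
    rw [(IsLocalization.injective A₀ P₂.primeCompl_le_nonZeroDivisors).eq_iff,
      (IsFractionRing.injective R₂ L).eq_iff]
  have : IsDomain A₀ := IsLocalization.isDomain_localization P₂.primeCompl_le_nonZeroDivisors
  have : IsNoetherianRing A₀ := IsLocalization.isNoetherianRing P₂.primeCompl A₀ inferInstance
  have hA₀ : ¬ IsField A₀ := fun hf => by
    obtain ⟨r, hr, hr0⟩ := Submodule.exists_mem_ne_zero_of_ne_bot hp
    have h1 : algebraMap R R₂ r ∈ P₂ := by
      rw [IsScalarTower.algebraMap_apply R T R₂]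
      show algebraMap R T r ∈ P₂.comap (algebraMap T R₂)
      rw [hP₂M]
      exact hMp.ge hr
    have h2 : algebraMap R₂ A₀ (algebraMap R R₂ r) ∈ IsLocalRing.maximalIdeal A₀ :=
      (IsLocalization.AtPrime.to_map_mem_maximal_iff A₀ P₂ _).2 h1
    rw [IsLocalRing.isField_iff_maximalIdeal_eq.1 hf, Ideal.mem_bot,
      map_eq_zero_iff _ (IsLocalization.injective A₀ P₂.primeCompl_le_nonZeroDivisors)] at h2
    exact hr0 (hinjΩ ((congrArg Subtype.val h2).trans (map_zero _).symm))
  obtain ⟨O, hO, hAO, hmO⟩ := DvrDom.exists_dvr (L := L) A₀ hA₀ htoL ∅ (by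
    rw [Finset.coe_empty, Set.union_empty, eq_top_iff]
    intro z _
    obtain ⟨a, b, -, rfl⟩ := IsFractionRing.div_surjective (A := R₂) z
    exact div_mem (Subfield.subset_closure ⟨algebraMap R₂ A₀ a, IsLocalization.lift_eq _ _⟩)
      (Subfield.subset_closure ⟨algebraMap R₂ A₀ b, IsLocalization.lift_eq _ _⟩))
  let ι₀ : A₀ →+* O := toL.codRestrict O.toSubring hAO
  let ι₂ : R₂ →+* O := ι₀.comp (algebraMap R₂ A₀)
  refine ⟨O, inferInstance, inferInstance, hO, ι₂.comp (algebraMap R R₂), fun F _ ρ hρ => ?_, fun F _ ρ hρ => ?_⟩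
  · let ρ' : T →+* F := ρ.comp (ι₂.comp (algebraMap T R₂))
    obtain ⟨j, hj⟩ := exists_hom_of_ker_eq ψ.toRingHom hgenψ ρ' (by
      have hc : RingHom.ker (ρ.comp ι₀) = IsLocalRing.maximalIdeal A₀ := by
        refine le_antisymm (IsLocalRing.le_maximalIdeal (RingHom.ker_ne_top _)) fun a ha => ?_
        show ι₀ a ∈ RingHom.ker ρ
        rw [hρ]
        exact (O.valuation_lt_one_iff (ι₀ a)).2 (hmO a ha)
      show M = _
      rw [← hP₂M]
      ext t
      rw [Ideal.mem_comap, ← IsLocalization.AtPrime.to_map_mem_maximal_iff A₀ P₂, ← hc]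
      rfl)
    refine ⟨j, fun r => ?_⟩
    rw [← ψ.commutes r]
    refine (hj _).trans ?_
    show ρ (ι₂ (τ₂ (algebraMap R T r))) = _
    rw [τ₂.commutes]
    rfl
  · let S : Subalgebra R K' := R₂.comap (σ.restrictScalars R)
    have hS : ∀ c ∈ l', c ∈ S := fun c hc => Algebra.subset_adjoin (Or.inr ⟨c, hc, rfl⟩)
    let σ₂ : S →+* R₂ := (σ.toRingHom.comp S.val.toRingHom).codRestrict R₂.toSubring fun x => x.2
    obtain ⟨j, hj⟩ := exists_hom_of_ker_eq S.val.toRingHom
      (fun z => by
        obtain ⟨x, hx, y, hy, hy0, rfl⟩ := hlgen' S hS z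
        exact ⟨⟨x, hx⟩, ⟨y, hy⟩, hy0, rfl⟩)
      (ρ.comp (ι₂.comp σ₂)) (by
        ext x
        show (x : K') = 0 ↔ ρ (ι₂ (σ₂ x)) = 0
        refine ⟨fun h => ?_, fun h => ?_⟩
        · rw [show x = 0 from Subtype.ext h, map_zero, map_zero, map_zero]
        · have h1 : algebraMap R₂ A₀ (σ₂ x) = 0 := htoL (by
            rw [map_zero]
            exact congrArg Subtype.val ((map_eq_zero_iff ρ hρ).1 h))
          rw [map_eq_zero_iff _ (IsLocalization.injective A₀ P₂.primeCompl_le_nonZeroDivisors)] at h1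
          exact σ.injective ((congrArg Subtype.val h1).trans (map_zero σ).symm))
    refine ⟨j, fun r => ?_⟩
    refine (hj (algebraMap R S r)).trans ?_
    show ρ (ι₂ (σ₂ (algebraMap R S r))) = ρ (ι₂ (algebraMap R R₂ r))
    congr 2
    exact Subtype.ext ((σ.restrictScalars R).commutes r)

end Groth.Agent.DvrGeom
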