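import Mathlib

/-!
# Counting the points of `K ⊗ B` for a finite algebra `B`
-/

set_option autoImplicit false
universe u

open scoped TensorProduct

namespace Groth.Agent.DvrGeom

theorem card_algHom_eq (k : Type u) [Field k] (B : Type u) [CommRing B] [Algebra k B] [Algebra.IsIntegral k B]
    (Ω : Type u) [Field Ω] [IsAlgClosed Ω] [Algebra k Ω] :
    ENat.card (B →ₐ[k] Ω) = ENat.card (B →ₐ[k] AlgebraicClosure k) := by
  let ε : AlgebraicClosure k →ₐ[k] Ω := IsAlgClosed.lift
  refine (ENat.card_congr (Equiv.ofBijective (fun ψ => ε.comp ψ) ⟨fun a b h => ?_, fun φ => ?_⟩)).symm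
  · exact AlgHom.ext fun x => ε.injective (AlgHom.congr_fun h x)
  · have hmem : ∀ b, φ b ∈ ε.range := fun b => by
      let := ε.toRingHom.toAlgebra
      have : IsScalarTower k (AlgebraicClosure k) Ω := IsScalarTower.of_algebraMap_eq fun x => (ε.commutes x).symm
      have hi : IsIntegral (AlgebraicClosure k) (φ b) := ((Algebra.IsIntegral.isIntegral (R := k) b).map φ).tower_top
      obtain ⟨c, hc⟩ := minpoly.degree_eq_one_iff.1 (IsAlgClosed.degree_eq_one_of_irreducible _ (minpoly.irreducible hi))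
      exact ⟨c, hc⟩
    exact ⟨(AlgEquiv.ofInjectiveField ε).symm.toAlgHom.comp (φ.codRestrict ε.range hmem), AlgHom.ext fun b =>
      congrArg Subtype.val ((AlgEquiv.ofInjectiveField ε).apply_symm_apply ⟨φ b, hmem b⟩)⟩

theorem card_primeSpectrum_tensor (k : Type u) [Field k] (B : Type u) [CommRing B] [Algebra k B] [Module.Finite k B]
    (K : Type u) [Field K] [Algebra k K] (Ω : Type u) [Field Ω] [IsAlgClosed Ω] [Algebra k Ω] [Algebra K Ω]
    [IsScalarTower k K Ω]
    (h : ∀ (φ : B →ₐ[k] Ω) (b : B), ∃ n, φ b ^ (ringExpChar Ω) ^ n ∈ Set.range (algebraMap K Ω)) :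
    ENat.card (PrimeSpectrum (K ⊗[k] B)) = ENat.card (B →ₐ[k] AlgebraicClosure k) := by
  rw [← card_algHom_eq k B Ω]
  let l : (B →ₐ[k] Ω) → (K ⊗[k] B →ₐ[K] Ω) := fun φ =>
    Algebra.TensorProduct.lift (Algebra.ofId K Ω) φ fun _ _ => Commute.all _ _
  let F : (B →ₐ[k] Ω) → PrimeSpectrum (K ⊗[k] B) := fun φ => ⟨RingHom.ker (l φ).toRingHom, RingHom.ker_isPrime _⟩
  refine (ENat.card_congr (Equiv.ofBijective F ⟨fun φ φ' hh => ?_, fun p => ?_⟩)).symm
  · refine AlgHom.ext fun b => ?_
    obtain ⟨n, c, hc⟩ := h φ b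
    have h1 : c ⊗ₜ[k] (1 : B) - (1 : K) ⊗ₜ[k] (b ^ (ringExpChar Ω) ^ n) ∈ RingHom.ker (l φ).toRingHom := by
      show l φ _ = 0
      simp [l, hc]
    rw [show RingHom.ker (l φ).toRingHom = RingHom.ker (l φ').toRingHom from congrArg PrimeSpectrum.asIdeal hh] at h1
    have h2 : l φ' (c ⊗ₜ[k] (1 : B) - (1 : K) ⊗ₜ[k] (b ^ (ringExpChar Ω) ^ n)) = 0 := h1
    simp [l, hc, sub_eq_zero] at h2
    exact iterateFrobenius_inj Ω (ringExpChar Ω) n h2
  · have : IsArtinianRing (K ⊗[k] B) := IsArtinianRing.of_finite K _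
    have : p.asIdeal.IsMaximal := (IsArtinianRing.isPrime_iff_isMaximal p.asIdeal).1 p.isPrime
    let := Ideal.Quotient.field p.asIdeal
    let σ : (K ⊗[k] B) ⧸ p.asIdeal →ₐ[K] Ω := IsAlgClosed.lift
    refine ⟨((σ.comp (Ideal.Quotient.mkₐ K p.asIdeal)).restrictScalars k).comp Algebra.TensorProduct.includeRight, ?_⟩
    ext x
    have e : l (((σ.comp (Ideal.Quotient.mkₐ K p.asIdeal)).restrictScalars k).comp
        Algebra.TensorProduct.includeRight) = σ.comp (Ideal.Quotient.mkₐ K p.asIdeal) := by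
      refine Algebra.TensorProduct.ext (by ext) ?_
      ext b
      simp [l]
    show l _ x = 0 ↔ _
    rw [e]
    show σ (Ideal.Quotient.mk _ x) = 0 ↔ _
    exact (map_eq_zero σ).trans Ideal.Quotient.eq_zero_iff_mem

theorem card_primeSpectrum_tensor_separableClosure (k : Type u) [Field k] (B : Type u) [CommRing B] [Algebra k B]
    [Module.Finite k B] :
    ENat.card (PrimeSpectrum (SeparableClosure k ⊗[k] B)) = ENat.card (B →ₐ[k] AlgebraicClosure k) :=
  card_primeSpectrum_tensor k B (SeparableClosure k) (AlgebraicClosure k) fun φ b => by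
    obtain ⟨n, c, hc⟩ := IsPurelyInseparable.pow_mem (SeparableClosure k)
      (ringExpChar (SeparableClosure k)) (φ b)
    refine ⟨n, c, ?_⟩
    have := expChar_of_injective_ringHom (algebraMap (SeparableClosure k) (AlgebraicClosure k)).injective
      (ringExpChar (SeparableClosure k))
    rw [hc, ringExpChar.eq (AlgebraicClosure k) (ringExpChar (SeparableClosure k))]

/-- The field generated by all geometric values of a finite algebra. -/
noncomputable def valueField (k : Type u) [Field k] (B : Type u) [CommRing B] [Algebra k B] :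
    IntermediateField k (AlgebraicClosure k) :=
  IntermediateField.adjoin k (⋃ φ : B →ₐ[k] AlgebraicClosure k, Set.range φ)

theorem finiteDimensional_valueField (k : Type u) [Field k] (B : Type u) [CommRing B] [Algebra k B]
    [Module.Finite k B] : FiniteDimensional k (valueField k B) := by
  obtain ⟨G, hG⟩ := Module.Finite.fg_top (R := k) (M := B)
  have e : valueField k B = IntermediateField.adjoin k (⋃ φ : B →ₐ[k] AlgebraicClosure k, φ '' (G : Set B)) := by
    refine le_antisymm (IntermediateField.adjoin_le_iff.2 ?_)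
      (IntermediateField.adjoin.mono _ _ _ (Set.iUnion_mono fun φ => Set.image_subset_range _ _))
    refine Set.iUnion_subset fun φ => ?_
    rintro _ ⟨b, rfl⟩
    have hb : b ∈ Submodule.span k (G : Set B) := hG ▸ Submodule.mem_top
    induction hb using Submodule.span_induction with
    | mem t ht => exact IntermediateField.subset_adjoin k _ (Set.mem_iUnion.2 ⟨φ, t, ht, rfl⟩)
    | zero => rw [map_zero]; exact zero_mem _
    | add a b _ _ ha hb => rw [map_add]; exact add_mem ha hb
    | smul r a _ ha => rw [map_smul]; exact IntermediateField.smul_mem _ ha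
  rw [e]
  have : Finite ↥(⋃ φ : B →ₐ[k] AlgebraicClosure k, φ '' (G : Set B)) :=
    (Set.finite_iUnion fun φ => G.finite_toSet.image _).to_subtype
  exact IntermediateField.finiteDimensional_adjoin fun x _ => Algebra.IsIntegral.isIntegral x

set_option synthInstance.maxHeartbeats 200000 in
theorem card_primeSpectrum_tensor_of_valueField (k : Type u) [Field k] (B : Type u) [CommRing B] [Algebra k B]
    [Module.Finite k B] (K : Type u) [Field K] [Algebra k K] (j : valueField k B →+* K)
    (hj : ∀ x, j (algebraMap k (valueField k B) x) = algebraMap k K x) :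
    ENat.card (PrimeSpectrum (K ⊗[k] B)) = ENat.card (B →ₐ[k] AlgebraicClosure k) := by
  let := j.toAlgebra
  have : IsScalarTower k (valueField k B) K := IsScalarTower.of_algebraMap_eq fun x => (hj x).symm
  let Ω := AlgebraicClosure K
  let ε : AlgebraicClosure k →ₐ[valueField k B] Ω := IsAlgClosed.lift
  refine card_primeSpectrum_tensor k B K Ω fun φ b => ⟨0, ?_⟩
  rw [pow_zero, pow_one]
  let ε₀ : AlgebraicClosure k →ₐ[k] Ω := ε.restrictScalars k
  have hi : Algebra.IsIntegral k B := Algebra.IsIntegral.of_finite k B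
  have hmem : ∀ x, φ x ∈ ε₀.range := fun x => by
    let := ε₀.toRingHom.toAlgebra
    have : IsScalarTower k (AlgebraicClosure k) Ω := IsScalarTower.of_algebraMap_eq fun x => (ε₀.commutes x).symm
    have hi : IsIntegral (AlgebraicClosure k) (φ x) :=
      ((Algebra.IsIntegral.isIntegral (R := k) x).map φ).tower_top
    exact minpoly.degree_eq_one_iff.1 (IsAlgClosed.degree_eq_one_of_irreducible _ (minpoly.irreducible hi))
  obtain ⟨c, hc⟩ : ∃ c, ε₀ c = φ b := hmem b
  have hc' : c ∈ valueField k B := by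
    let ψ : B →ₐ[k] AlgebraicClosure k := (AlgEquiv.ofInjectiveField ε₀).symm.toAlgHom.comp (φ.codRestrict ε₀.range hmem)
    refine IntermediateField.subset_adjoin k _ (Set.mem_iUnion.2 ⟨ψ, b, ε₀.injective ?_⟩)
    exact (congrArg Subtype.val ((AlgEquiv.ofInjectiveField ε₀).apply_symm_apply ⟨φ b, hmem b⟩)).trans hc.symm
  refine ⟨j ⟨c, hc'⟩, ?_⟩
  rw [← hc]
  exact (ε.commutes ⟨c, hc'⟩).symm

end Groth.Agent.DvrGeom
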