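import Groth.Agent.DvrGeom.Algebra
import Groth.Agent.DvrGeom.Count
import Groth.Prelude.Def_MoreMor

/-!
# Realising geometric numbers of points of fibres by a discrete valuation ring
-/

set_option autoImplicit false
universe u

open CategoryTheory Limits AlgebraicGeometry
open scoped TensorProduct

namespace Groth.Agent.DvrGeom

theorem exists_algebra_card_pullback {k : Type u} [Field k] {F : Scheme.{u}} (q : F ⟶ Spec (.of k)) [IsFinite q] :
    ∃ (B : Type u) (_ : CommRing B) (_ : Algebra k B) (_ : Module.Finite k B),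
      ∀ (K : Type u) [Field K] [Algebra k K],
        DiscreteTopology ↥(pullback q (Spec.map (CommRingCat.ofHom (algebraMap k K)))) ∧
        ENat.card ↥(pullback q (Spec.map (CommRingCat.ofHom (algebraMap k K)))) =
          ENat.card (PrimeSpectrum (K ⊗[k] B)) := by
  have : IsAffine F := isAffine_of_isAffineHom q
  let φ : CommRingCat.of k ⟶ Γ(F, ⊤) := Spec.preimage (F.isoSpec.inv ≫ q)
  have hφ : Spec.map φ = F.isoSpec.inv ≫ q := Spec.map_preimage _
  have hfin : φ.hom.Finite := by
    rw [← IsFinite.SpecMap_iff, hφ]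
    infer_instance
  let := φ.hom.toAlgebra
  refine ⟨Γ(F, ⊤), inferInstance, inferInstance, hfin, fun K _ _ => ?_⟩
  let e : pullback q (Spec.map (CommRingCat.ofHom (algebraMap k K))) ≅ Spec (.of (K ⊗[k] Γ(F, ⊤))) :=
    asIso (pullback.map q (Spec.map (CommRingCat.ofHom (algebraMap k K)))
      (Spec.map (CommRingCat.ofHom (algebraMap k Γ(F, ⊤)))) (Spec.map (CommRingCat.ofHom (algebraMap k K)))
      F.isoSpec.hom (𝟙 _) (𝟙 _) (by
        rw [show CommRingCat.ofHom (algebraMap k Γ(F, ⊤)) = φ from rfl, hφ, Category.comp_id, Iso.hom_inv_id_assoc])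
      (by rw [Category.comp_id, Category.id_comp])) ≪≫ pullbackSymmetry _ _ ≪≫ pullbackSpecIso k K Γ(F, ⊤)
  let h : ↥(pullback q (Spec.map (CommRingCat.ofHom (algebraMap k K)))) ≃ₜ PrimeSpectrum (K ⊗[k] Γ(F, ⊤)) :=
    Scheme.Hom.homeomorph e.hom
  have : Module.Finite k Γ(F, ⊤) := hfin
  have : IsArtinianRing (K ⊗[k] Γ(F, ⊤)) := IsArtinianRing.of_finite K _
  exact ⟨h.discreteTopology_iff.2 inferInstance, ENat.card_congr h.toEquiv⟩

theorem card_connectedComponents {T : Type u} [TopologicalSpace T] [DiscreteTopology T] :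
    ENat.card (ConnectedComponents T) = ENat.card T := by
  refine (ENat.card_congr (Equiv.ofBijective ConnectedComponents.mk ⟨fun a b hab => ?_,
    ConnectedComponents.surjective_coe⟩)).symm
  have h2 : connectedComponent a = connectedComponent b := ConnectedComponents.coe_eq_coe.mp hab
  rw [connectedComponent_eq_singleton, connectedComponent_eq_singleton] at h2
  exact Set.singleton_injective h2

/-- A finite algebra presenting the fibre of a quasi-finite morphism. -/
theorem exists_fiber_algebra {X Y : Scheme.{u}} (f : X ⟶ Y) [LocallyQuasiFinite f] [QuasiCompact f] (y : Y) :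
    ∃ (B : Type u) (_ : CommRing B) (_ : Algebra (Y.residueField y) B) (_ : Module.Finite (Y.residueField y) B),
      MoreMor.nGeomConnComp f y = ENat.card (B →ₐ[Y.residueField y] AlgebraicClosure (Y.residueField y)) ∧
      ∀ {Z : Scheme.{u}} (g : Z ⟶ Y) (a : Z) (j : valueField (Y.residueField y) B →+* Z.residueField a),
        Z.fromSpecResidueField a ≫ g =
          Spec.map (CommRingCat.ofHom (j.comp (algebraMap (Y.residueField y) (valueField (Y.residueField y) B)))) ≫
            Y.fromSpecResidueField y →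
        ENat.card ↥((pullback.snd f g).fiber a) =
          ENat.card (B →ₐ[Y.residueField y] AlgebraicClosure (Y.residueField y)) := by
  have : IsFinite (f.fiberToSpecResidueField y) := inferInstance
  obtain ⟨B, _, _, _, hB⟩ := exists_algebra_card_pullback (k := Y.residueField y) (f.fiberToSpecResidueField y)
  refine ⟨B, inferInstance, inferInstance, inferInstance, ?_, fun {Z} g a j hj => ?_⟩
  · obtain ⟨hd, hc⟩ := hB (SeparableClosure (Y.residueField y))
    have : DiscreteTopology ↥(MoreMor.geomFiber f y) := hd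
    rw [← card_primeSpectrum_tensor_separableClosure (Y.residueField y) B, ← hc]
    exact card_connectedComponents (T := ↥(MoreMor.geomFiber f y))
  · let := (j.comp (algebraMap (Y.residueField y) (valueField (Y.residueField y) B))).toAlgebra
    rw [← card_primeSpectrum_tensor_of_valueField (Y.residueField y) B (Z.residueField a) j (fun _ => rfl),
      ← (hB (Z.residueField a)).2]
    let e : (pullback.snd f g).fiber a ≅
        pullback (f.fiberToSpecResidueField y)
          (Spec.map (CommRingCat.ofHom (algebraMap (Y.residueField y) (Z.residueField a)))) :=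
      pullbackLeftPullbackSndIso f g (Z.fromSpecResidueField a) ≪≫ pullback.congrHom rfl hj ≪≫
        (pullbackLeftPullbackSndIso f (Y.fromSpecResidueField y) _).symm
    exact ENat.card_congr e.hom.homeomorph.toEquiv

theorem fromSpecResidueField_eq {Y : Scheme.{u}} {U : Y.Opens} (hU : IsAffineOpen U) (y : Y) (hy : y ∈ U) :
    Y.fromSpecResidueField y = Spec.map (Y.evaluation U y hy) ≫ hU.fromSpec := by
  rw [Scheme.fromSpecResidueField, ← hU.fromSpecStalk_eq_fromSpecStalk hy, IsAffineOpen.fromSpecStalk,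
    ← Spec.map_comp_assoc]
  rfl

theorem fromSpec_ker_evaluation {Y : Scheme.{u}} {U : Y.Opens} (hU : IsAffineOpen U) (y : Y) (hy : y ∈ U) :
    hU.fromSpec ⟨RingHom.ker (Y.evaluation U y hy).hom, RingHom.ker_isPrime _⟩ = y :=
  (congrArg (fun F => F.base (⊥ : PrimeSpectrum (Y.residueField y))) (fromSpecResidueField_eq hU y hy)).symm.trans
    (Y.fromSpecResidueField_apply y _)

theorem exists_frac_evaluation {Y : Scheme.{u}} {U : Y.Opens} (hU : IsAffineOpen U) (y : Y) (hy : y ∈ U)
    (z : Y.residueField y) :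
    ∃ a b, Y.evaluation U y hy b ≠ 0 ∧ z * Y.evaluation U y hy b = Y.evaluation U y hy a := by
  let := TopCat.Presheaf.algebra_section_stalk Y.presheaf (⟨y, hy⟩ : U)
  have := hU.isLocalization_stalk ⟨y, hy⟩
  obtain ⟨w, rfl⟩ := Y.residue_surjective y z
  obtain ⟨⟨a, b⟩, hab⟩ := IsLocalization.surj (hU.primeIdealOf ⟨y, hy⟩).asIdeal.primeCompl w
  refine ⟨a, b, fun h => ?_, ?_⟩
  · have h1 : IsUnit (Y.presheaf.germ U y hy (b : Γ(Y, U))) :=
      IsLocalization.map_units (Y.presheaf.stalk y) b
    exact (h1.map (Y.residue y).hom).ne_zero h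
  · exact (map_mul (Y.residue y).hom _ _).symm.trans (congrArg (Y.residue y).hom hab)

theorem exists_dvr_realizing {X Y : Scheme.{u}} [IsLocallyNoetherian Y] (f : X ⟶ Y)
    [LocallyQuasiFinite f] [QuasiCompact f] (y y' : Y) (hne : y' ≠ y) (hgen : y' ⤳ y) :
    ∃ (A : Type u) (_ : CommRing A) (_ : IsDomain A) (_ : IsDiscreteValuationRing A) (g : Spec (CommRingCat.of A) ⟶ Y),
      g.base (IsLocalRing.closedPoint A) = y ∧ g.base (genericPoint (Spec (CommRingCat.of A))) = y' ∧
      MoreMor.nGeomConnComp f y = ENat.card ↥((pullback.snd f g).fiber (IsLocalRing.closedPoint A)) ∧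
      MoreMor.nGeomConnComp f y' = ENat.card ↥((pullback.snd f g).fiber (genericPoint (Spec (CommRingCat.of A)))) := by
  obtain ⟨B, _, _, _, hB, hBfib⟩ := exists_fiber_algebra f y
  obtain ⟨B', _, _, _, hB', hBfib'⟩ := exists_fiber_algebra f y'
  have := finiteDimensional_valueField (Y.residueField y) B
  have := finiteDimensional_valueField (Y.residueField y') B'
  obtain ⟨U, hU, hy, -⟩ := exists_isAffineOpen_mem_and_subset (X := Y) (x := y) (U := ⊤) trivial
  have hy' : y' ∈ U := hgen.mem_open U.2 hy
  let χ := (Y.evaluation U y hy).hom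
  let χ' := (Y.evaluation U y' hy').hom
  have hker : RingHom.ker χ' ≤ RingHom.ker χ := fun r hr => by
    by_contra h
    exact (Scheme.evaluation_ne_zero_iff_mem_basicOpen _ y' hy' r).2
      (hgen.mem_open (Y.basicOpen r).2 ((Scheme.evaluation_ne_zero_iff_mem_basicOpen _ y hy r).1 h)) hr
  have hNoeth : IsNoetherianRing Γ(Y, U) := IsLocallyNoetherian.component_noetherian ⟨U, hU⟩
  let R := Γ(Y, U) ⧸ RingHom.ker χ'
  have : (RingHom.ker χ').IsPrime := RingHom.ker_isPrime _
  let κ := Ideal.Quotient.lift (RingHom.ker χ') χ fun r hr => hker hr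
  let κ' := Ideal.Quotient.lift (RingHom.ker χ') χ' fun r hr => hr
  let := κ.toAlgebra
  let := κ'.toAlgebra
  have : FaithfulSMul R (Y.residueField y') :=
    (faithfulSMul_iff_algebraMap_injective _ _).2 (RingHom.kerLift_injective χ')
  have : IsFractionRing R (Y.residueField y') := IsFractionRing.of_field _ _ fun z => by
    obtain ⟨a, b, hb, hab⟩ := exists_frac_evaluation hU y' hy' z
    exact ⟨Ideal.Quotient.mk _ a, Ideal.Quotient.mk _ b, eq_div_of_mul_eq hb hab⟩
  have hfrac : ∀ z : Y.residueField y, ∃ a b : R, algebraMap R (Y.residueField y) b ≠ 0 ∧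
      z * algebraMap R (Y.residueField y) b = algebraMap R (Y.residueField y) a := fun z => by
    obtain ⟨a, b, hb, hab⟩ := exists_frac_evaluation hU y hy z
    exact ⟨Ideal.Quotient.mk _ a, Ideal.Quotient.mk _ b, hb, hab⟩
  have hp : RingHom.ker (algebraMap R (Y.residueField y)) ≠ ⊥ := fun h => hne (by
    have h1 : RingHom.ker χ = RingHom.ker χ' := by
      refine le_antisymm (fun r hr => ?_) hker
      have h2 : Ideal.Quotient.mk (RingHom.ker χ') r ∈ (⊥ : Ideal R) := h ▸ hr
      exact Ideal.Quotient.eq_zero_iff_mem.1 h2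
    calc y' = hU.fromSpec ⟨RingHom.ker χ', RingHom.ker_isPrime _⟩ := (fromSpec_ker_evaluation hU y' hy').symm
      _ = hU.fromSpec ⟨RingHom.ker χ, RingHom.ker_isPrime _⟩ := congrArg _ (PrimeSpectrum.ext h1.symm)
      _ = y := fromSpec_ker_evaluation hU y hy)
  obtain ⟨A, _, _, hA, φ, hcl, hgn⟩ := exists_dvr_core R hfrac (K₀ := Y.residueField y') hp
    (valueField (Y.residueField y) B) (valueField (Y.residueField y') B')
  let g : Spec (CommRingCat.of A) ⟶ Y :=
    Spec.map (CommRingCat.ofHom (φ.comp (Ideal.Quotient.mk (RingHom.ker χ')))) ≫ hU.fromSpec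
  let ρ : ∀ a : Spec (CommRingCat.of A), A →+* (Spec (CommRingCat.of A)).residueField a :=
    fun a => (Spec.preimage ((Spec (CommRingCat.of A)).fromSpecResidueField a)).hom
  have hρ : ∀ a, RingHom.ker (ρ a) = a.asIdeal := fun a => by
    conv_rhs => rw [← (Spec (CommRingCat.of A)).fromSpecResidueField_apply a (⊥ : PrimeSpectrum ((Spec (CommRingCat.of A)).residueField a)),
      ← Spec.map_preimage ((Spec (CommRingCat.of A)).fromSpecResidueField a)]
    rfl
  have key : ∀ (a : Spec (CommRingCat.of A)) (z : Y) (hz : z ∈ U)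
      (j : Y.residueField z →+* (Spec (CommRingCat.of A)).residueField a),
      (∀ r, j (Y.evaluation U z hz r) = ρ a (φ (Ideal.Quotient.mk _ r))) →
      (Spec (CommRingCat.of A)).fromSpecResidueField a ≫ g =
          Spec.map (CommRingCat.ofHom j) ≫ Y.fromSpecResidueField z ∧ g.base a = z := fun a z hz j hj => by
    have e : (Spec (CommRingCat.of A)).fromSpecResidueField a ≫ g =
        Spec.map (CommRingCat.ofHom j) ≫ Y.fromSpecResidueField z := by
      rw [fromSpecResidueField_eq hU z hz, ← Spec.map_preimage ((Spec (CommRingCat.of A)).fromSpecResidueField a),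
        ← Spec.map_comp_assoc, ← Spec.map_comp_assoc]
      congr 2
      ext r
      exact (hj r).symm
    refine ⟨e, ?_⟩
    let pt : Spec ((Spec (CommRingCat.of A)).residueField a) := IsLocalRing.closedPoint _
    calc g.base a = g.base ((Spec (CommRingCat.of A)).fromSpecResidueField a pt) := by
          rw [Scheme.fromSpecResidueField_apply]
      _ = ((Spec (CommRingCat.of A)).fromSpecResidueField a ≫ g).base pt := rfl
      _ = (Spec.map (CommRingCat.ofHom j) ≫ Y.fromSpecResidueField z).base pt := by rw [e]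
      _ = z := Y.fromSpecResidueField_apply z _
  let a₀ : Spec (CommRingCat.of A) := IsLocalRing.closedPoint A
  obtain ⟨j, hj⟩ := hcl ((Spec (CommRingCat.of A)).residueField a₀) (ρ a₀) (hρ _)
  obtain ⟨J, hJ⟩ := hgn _ (ρ (genericPoint (Spec (CommRingCat.of A)))) (by
    rw [RingHom.injective_iff_ker_eq_bot, hρ, genericPoint_eq_bot_of_affine]
    rfl)
  have h1 := key a₀ y hy (j.comp (algebraMap _ _)) fun r => hj (Ideal.Quotient.mk _ r)
  have h2 := key (genericPoint (Spec (CommRingCat.of A))) y' hy' (J.comp (algebraMap _ _))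
    fun r => hJ (Ideal.Quotient.mk _ r)
  exact ⟨A, inferInstance, inferInstance, hA, g, h1.2, h2.2, hB.trans (hBfib g _ j h1.1).symm,
    hB'.trans (hBfib' g _ J h2.1).symm⟩

end Groth.Agent.DvrGeom
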